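import Cfsg.Agent.Zassenhaus.Basic
import Cfsg.Agent.Invol.Count
import Cfsg.Agent.S0205
import Cfsg.Agent.Coprime.SchurZassenhaus
import Mathlib.GroupTheory.GroupAction.Quotient
import Mathlib.GroupTheory.Perm.Cycle.Type

/-!
Doubly transitive groups with an involution `t` all of whose non-trivial centralising elements
fix the same number of points: the basic counting. Every element interchanging two points is a
conjugate of `t`, so two-point stabilisers are abelian and inverted by the interchanging elements.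
-/

set_option autoImplicit false
set_option linter.style.haveILetI false
set_option linter.unusedSectionVars false

namespace Cfsg.Agent.ConstFixInv

open Subgroup MulAction Cfsg.Agent.Zassenhaus

variable {G Ω : Type*} [Group G] [MulAction G Ω]

variable (Ω) in
/-- Number of fixed points. -/
noncomputable def nfix (g : G) : ℕ := Nat.card {x : Ω // g • x = x}

theorem nfix_conj (h g : G) : nfix Ω (h * g * h⁻¹) = nfix Ω g := by
  refine (Nat.card_congr (Equiv.subtypeEquiv (MulAction.toPerm h) fun x => ?_)).symm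
  show g • x = x ↔ (h * g * h⁻¹) • h • x = h • x
  rw [mul_smul, mul_smul, inv_smul_smul, smul_left_cancel_iff]

theorem two_le_nfix [Finite Ω] {g : G} {a b : Ω} (hab : a ≠ b) (ha : g • a = a)
    (hb : g • b = b) : 2 ≤ nfix Ω g := by
  classical
  haveI := Fintype.ofFinite Ω
  rw [nfix, Nat.card_eq_fintype_card]
  exact Fintype.one_lt_card_iff.2 ⟨⟨a, ha⟩, ⟨b, hb⟩, fun e => hab (congrArg Subtype.val e)⟩

theorem exists_two_of_nfix [Finite Ω] {g : G} (h : 2 ≤ nfix Ω g) :
    ∃ a b : Ω, a ≠ b ∧ g • a = a ∧ g • b = b := by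
  classical
  haveI := Fintype.ofFinite Ω
  rw [nfix, Nat.card_eq_fintype_card] at h
  obtain ⟨⟨a, ha⟩, ⟨b, hb⟩, hne⟩ := Fintype.one_lt_card_iff.1 (Nat.lt_of_succ_le h)
  exact ⟨a, b, fun e => hne (Subtype.ext e), ha, hb⟩

theorem fix_eq_of_subset [Finite Ω] {g h : G} (hsub : ∀ x : Ω, g • x = x → h • x = x)
    (hle : nfix Ω h ≤ nfix Ω g) {x : Ω} (hx : h • x = x) : g • x = x := by
  have hs : {x : Ω | g • x = x} = {x : Ω | h • x = x} := by
    refine Set.eq_of_subset_of_ncard_le (fun y hy => hsub y hy) ?_ (Set.toFinite _)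
    rw [← Nat.card_coe_set_eq, ← Nat.card_coe_set_eq]
    exact hle
  have : x ∈ {x : Ω | h • x = x} := hx
  rw [← hs] at this
  exact this

/-- An involution mapping a set of odd size into itself fixes one of its members. -/
theorem exists_fixed_of_odd [Finite Ω] {g : G} (hg : g * g = 1) (P : Ω → Prop)
    (hP : ∀ x, P x → P (g • x)) (hodd : Odd (Nat.card {x : Ω // P x})) :
    ∃ x, P x ∧ g • x = x := by
  classical
  haveI := Fintype.ofFinite Ω
  haveI : Fact (Nat.Prime 2) := ⟨Nat.prime_two⟩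
  have hinv : Function.Involutive (fun x : {x : Ω // P x} =>
      (⟨g • x.1, hP _ x.2⟩ : {x : Ω // P x})) := fun x => Subtype.ext (by
    show g • g • x.1 = x.1
    rw [smul_smul, hg, one_smul])
  rw [Nat.card_eq_fintype_card] at hodd
  obtain ⟨x, hx⟩ := Equiv.Perm.exists_fixed_point_of_prime (p := 2) (n := 1)
    (σ := hinv.toPerm _) (fun h2 => Nat.not_even_iff_odd.2 hodd (even_iff_two_dvd.2 h2))
    (by rw [pow_one, pow_two]; ext y; exact congrArg Subtype.val (hinv y))
  exact ⟨x.1, x.2, congrArg Subtype.val hx⟩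

/-- An involution mapping a set of even size into itself fixes a second member with the first. -/
theorem exists_fixed_of_even [Finite Ω] {g : G} (hg : g * g = 1) (P : Ω → Prop)
    (hP : ∀ x, P x → P (g • x)) (heven : Even (Nat.card {x : Ω // P x})) {a : Ω} (ha : P a)
    (hga : g • a = a) : ∃ x, P x ∧ g • x = x ∧ x ≠ a := by
  classical
  haveI := Fintype.ofFinite Ω
  haveI : Fact (Nat.Prime 2) := ⟨Nat.prime_two⟩
  have hinv : Function.Involutive (fun x : {x : Ω // P x} =>
      (⟨g • x.1, hP _ x.2⟩ : {x : Ω // P x})) := fun x => Subtype.ext (by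
    show g • g • x.1 = x.1
    rw [smul_smul, hg, one_smul])
  rw [Nat.card_eq_fintype_card] at heven
  obtain ⟨x, hx, hne⟩ := Equiv.Perm.exists_fixed_point_of_prime' (p := 2) (n := 1)
    (σ := hinv.toPerm _) (even_iff_two_dvd.1 heven)
    (by rw [pow_one, pow_two]; ext y; exact congrArg Subtype.val (hinv y))
    (a := ⟨a, ha⟩) (Subtype.ext hga)
  exact ⟨x.1, x.2, congrArg Subtype.val hx, fun e => hne (Subtype.ext e)⟩

/-- A subgroup transitive on a set with two members has an element moving all of it. -/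
theorem exists_derangement [Finite G] [Finite Ω] (S : Subgroup G) (P : Ω → Prop)
    (hP : ∀ g ∈ S, ∀ x, P x → P (g • x))
    (htr : ∀ x y, P x → P y → ∃ g ∈ S, g • x = y) {a b : Ω} (ha : P a) (hb : P b) (hab : a ≠ b) :
    ∃ g ∈ S, ∀ x, P x → g • x ≠ x := by
  classical
  haveI := Fintype.ofFinite Ω
  haveI := Fintype.ofFinite S
  letI : MulAction S {x : Ω // P x} :=
    { smul := fun g x => ⟨(g : G) • x.1, hP _ g.2 _ x.2⟩
      one_smul := fun x => Subtype.ext (one_smul G x.1)
      mul_smul := fun g h x => Subtype.ext (mul_smul (g : G) (h : G) x.1) }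
  by_contra hcon
  push Not at hcon
  have hburn := MulAction.sum_card_fixedBy_eq_card_orbits_mul_card_group S {x : Ω // P x}
  have h1 : Fintype.card (Quotient (MulAction.orbitRel S {x : Ω // P x})) = 1 := by
    refine Fintype.card_eq_one_iff.2 ⟨Quotient.mk'' ⟨a, ha⟩, fun q => ?_⟩
    induction q using Quotient.inductionOn' with | h x => ?_
    refine Quotient.sound' ?_
    obtain ⟨g, hg, e⟩ := htr a x.1 ha x.2
    exact ⟨⟨g, hg⟩, Subtype.ext e⟩
  rw [h1, one_mul] at hburn
  have hlt : ∑ _g : S, 1 < ∑ g : S, Fintype.card (fixedBy {x : Ω // P x} g) := by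
    refine Finset.sum_lt_sum (fun g _ => ?_) ⟨1, Finset.mem_univ _, ?_⟩
    · obtain ⟨x, hx, e⟩ := hcon g g.2
      exact Fintype.card_pos_iff.2 ⟨⟨⟨x, hx⟩, Subtype.ext e⟩⟩
    · exact Fintype.one_lt_card_iff.2 ⟨⟨⟨a, ha⟩, Subtype.ext (one_smul G a)⟩,
        ⟨⟨b, hb⟩, Subtype.ext (one_smul G b)⟩,
        fun e => hab (congrArg (fun z => z.1.1) e)⟩
  simp only [Finset.sum_const, Finset.card_univ, smul_eq_mul, mul_one] at hlt
  omega

variable (G Ω) in
/-- The hypotheses. -/
structure Hyp (i : ℕ) (t : G) : Prop where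
  two : ∀ {x y u v : Ω}, x ≠ y → u ≠ v → ∃ g : G, g • x = u ∧ g • y = v
  invol : orderOf t = 2
  fixC : ∀ g : G, Commute g t → g ≠ 1 → nfix Ω g = i
  faithful : ∀ g : G, (∀ x : Ω, g • x = x) → g = 1

/-- Ordered pairs of distinct points. -/
abbrev Pairs (Ω : Type*) := {p : Ω × Ω // p.1 ≠ p.2}

namespace Hyp

variable {i : ℕ} {t : G} (H : Hyp G Ω i t)
include H

theorem nfix_t : nfix Ω t = i := H.fixC t (Commute.refl t) (Invol.ne_one H.invol)

theorem conj_fix {y : G} (hy : IsConj t y) {g : G} (hg : Commute g y) (hg1 : g ≠ 1) :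
    nfix Ω g = i := by
  obtain ⟨k, rfl⟩ := isConj_iff.1 hy
  rw [← nfix_conj k⁻¹ g]
  refine H.fixC _ ?_ fun e => hg1 ?_
  · have h2 := (Commute.conj_iff k⁻¹).2 hg
    rwa [show k⁻¹ * (k * t * k⁻¹) * k⁻¹⁻¹ = t by group] at h2
  · calc g = k * (k⁻¹ * g * k⁻¹⁻¹) * k⁻¹ := by group
      _ = 1 := by rw [e]; group

theorem change {y : G} (hy : IsConj t y) : Hyp G Ω i y :=
  ⟨H.two, Invol.orderOf_eq_two_of_isConj hy H.invol, fun _ hg hg1 => H.conj_fix hy hg hg1,
    H.faithful⟩

theorem exists_moved : ∃ x : Ω, t • x ≠ x := by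
  by_contra h
  push Not at h
  exact Invol.ne_one H.invol (H.faithful t h)

theorem nonempty_pairs : Nonempty (Pairs Ω) := by
  obtain ⟨x, hx⟩ := H.exists_moved
  exact ⟨⟨(t • x, x), hx⟩⟩

variable [Finite G] [Finite Ω]

theorem card_group {a b : Ω} (hab : a ≠ b) :
    Nat.card (Pairs Ω) * Nat.card (twoPt G a b) = Nat.card G := by
  classical
  let h : Pairs Ω → G := fun p => (H.two hab p.2).choose
  have hh : ∀ p : Pairs Ω, h p • a = p.1.1 ∧ h p • b = p.1.2 := fun p =>
    (H.two hab p.2).choose_spec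
  let f : G → Pairs Ω := fun g =>
    ⟨(g • a, g • b), fun e => hab (MulAction.injective g e)⟩
  rw [← Nat.card_prod]
  refine Nat.card_congr
    { toFun := fun pd => h pd.1 * (pd.2 : G)
      invFun := fun g => (f g, ⟨(h (f g))⁻¹ * g, ?_, ?_⟩)
      left_inv := fun pd => ?_
      right_inv := fun g => ?_ }
  · show ((h (f g))⁻¹ * g) • a = a
    rw [mul_smul, inv_smul_eq_iff, (hh (f g)).1]
  · show ((h (f g))⁻¹ * g) • b = b
    rw [mul_smul, inv_smul_eq_iff, (hh (f g)).2]
  · obtain ⟨p, d⟩ := pd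
    have hp : f (h p * (d : G)) = p := by
      refine Subtype.ext (Prod.ext ?_ ?_)
      · show (h p * (d : G)) • a = p.1.1
        rw [mul_smul, show (d : G) • a = a from d.2.1, (hh p).1]
      · show (h p * (d : G)) • b = p.1.2
        rw [mul_smul, show (d : G) • b = b from d.2.2, (hh p).2]
    refine Prod.ext hp (Subtype.ext ?_)
    show (h (f (h p * (d : G))))⁻¹ * (h p * (d : G)) = d
    rw [hp, inv_mul_cancel_left]
  · show h (f g) * ((h (f g))⁻¹ * g) = g
    rw [mul_inv_cancel_left]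

omit [Finite G] in
theorem nfix_lt : i < Nat.card Ω := by
  obtain ⟨x, hx⟩ := H.exists_moved
  haveI := Fintype.ofFinite Ω
  classical
  rw [← H.nfix_t, nfix, Nat.card_eq_fintype_card, Nat.card_eq_fintype_card]
  exact Fintype.card_subtype_lt hx

/-- The centraliser order is at most the number of moved points. -/
theorem card_cent_le : Nat.card (centralizer ({t} : Set G)) ≤ Nat.card Ω - i := by
  classical
  haveI := Fintype.ofFinite Ω
  haveI := Fintype.ofFinite (centralizer ({t} : Set G))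
  set C := centralizer ({t} : Set G)
  have hburn := MulAction.sum_card_fixedBy_eq_card_orbits_mul_card_group C Ω
  have hterm : ∀ g : C, g ≠ 1 → Fintype.card (fixedBy Ω g) = i := by
    intro g hg
    rw [← Nat.card_eq_fintype_card]
    exact H.fixC g (mem_centralizer_singleton_iff.1 g.2) fun e => hg (Subtype.ext e)
  rw [← Finset.add_sum_erase _ _ (Finset.mem_univ (1 : C)),
    Finset.sum_congr rfl fun g hg => hterm g (Finset.mem_erase.1 hg).1, Finset.sum_const,
    Finset.card_erase_of_mem (Finset.mem_univ _), Finset.card_univ, smul_eq_mul] at hburn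
  have h1 : Fintype.card (fixedBy Ω (1 : C)) = Fintype.card Ω :=
    Fintype.card_congr (Equiv.subtypeUnivEquiv fun x => one_smul C x)
  rw [h1] at hburn
  rw [Nat.card_eq_fintype_card, Nat.card_eq_fintype_card]
  have hc := Fintype.card_pos_iff.2 ⟨(1 : C)⟩
  have hlt := H.nfix_lt
  rw [Nat.card_eq_fintype_card] at hlt
  generalize Fintype.card C = c at hburn hc ⊢
  generalize Fintype.card Ω = n at hburn hlt ⊢
  generalize Fintype.card (Quotient (MulAction.orbitRel C Ω)) = r at hburn
  obtain ⟨c, rfl⟩ := Nat.exists_eq_add_of_le hc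
  obtain ⟨k, rfl⟩ := Nat.exists_eq_add_of_le hlt.le
  rw [Nat.add_sub_cancel_left] at hburn
  rw [Nat.add_sub_cancel_left]
  have hk : k + i * (1 + c) = r * (1 + c) := by rw [← hburn]; ring
  have hdvd : 1 + c ∣ k := by
    refine (Nat.dvd_add_left (dvd_mul_left (1 + c) i)).1 ?_
    rw [hk]; exact dvd_mul_left _ _
  exact Nat.le_of_dvd (by omega) hdvd

/-- Conjugates of `t` mapping the first point to the second. -/
abbrev _root_.Cfsg.Agent.ConstFixInv.Sw (t : G) (p : Pairs Ω) :=
  {y : G // IsConj t y ∧ y • p.1.1 = p.1.2}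

omit [Finite G] [Finite Ω] in
theorem invol_of_conj {y : G} (hy : IsConj t y) : y * y = 1 :=
  Invol.mul_self_eq_one (Invol.orderOf_eq_two_of_isConj hy H.invol)

omit [Finite G] [Finite Ω] in
theorem smul_back {y : G} (hy : IsConj t y) {u v : Ω} (h : y • u = v) : y • v = u := by
  subst h
  rw [smul_smul, H.invol_of_conj hy, one_smul]

omit [Finite G] [Finite Ω] in
theorem card_sw_eq (p q : Pairs Ω) : Nat.card (Sw t p) = Nat.card (Sw t q) := by
  obtain ⟨g, hg1, hg2⟩ := H.two p.2 q.2
  refine Nat.card_congr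
    { toFun := fun y => ⟨g * y.1 * g⁻¹, y.2.1.trans (isConj_iff.2 ⟨g, rfl⟩), ?_⟩
      invFun := fun y => ⟨g⁻¹ * y.1 * g, y.2.1.trans (isConj_iff.2 ⟨g⁻¹, by simp⟩), ?_⟩
      left_inv := fun y => Subtype.ext (by simp [mul_assoc])
      right_inv := fun y => Subtype.ext (by simp [mul_assoc]) }
  · rw [mul_smul, mul_smul, ← hg1, inv_smul_smul, y.2.2, hg2]
  · rw [mul_smul, mul_smul, hg1, y.2.2, inv_smul_eq_iff, hg2]

/-- Key count: every element interchanging two points is a conjugate of `t`, and the centraliser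
of `t` has as many elements as `t` moves points. -/
theorem key :
    Nat.card (centralizer ({t} : Set G)) = Nat.card Ω - i ∧
    ∀ {a b : Ω}, a ≠ b → ∀ {g : G}, g • a = b → g • b = a → IsConj t g := by
  classical
  haveI := Fintype.ofFinite Ω
  haveI := Fintype.ofFinite G
  obtain ⟨p₀⟩ := H.nonempty_pairs
  haveI : Nonempty (Pairs Ω) := ⟨p₀⟩
  set P := Nat.card (Pairs Ω) with hP
  set c := Nat.card (centralizer ({t} : Set G)) with hcdef
  have hPpos : 0 < P := Nat.card_pos
  set T := Nat.card {y : G // IsConj t y} with hT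
  have hTc : T * c = Nat.card G := Invol.card_isConj_mul_card_centralizer t
  have hTpos : 0 < T := @Nat.card_pos _ ⟨⟨t, IsConj.refl t⟩⟩ _
  -- double counting of the pairs interchanged by the conjugates of `t`
  have e : (Σ y : {y : G // IsConj t y}, {x : Ω // y.1 • x ≠ x}) ≃ Σ p : Pairs Ω, Sw t p :=
    { toFun := fun z => ⟨⟨(z.2.1, z.1.1 • z.2.1), fun e => z.2.2 e.symm⟩, z.1.1, z.1.2, rfl⟩
      invFun := fun z => ⟨⟨z.2.1, z.2.2.1⟩, ⟨z.1.1.1, fun e => z.1.2 (e.symm.trans z.2.2.2)⟩⟩
      left_inv := fun _ => rfl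
      right_inv := by
        rintro ⟨⟨⟨u, v⟩, huv⟩, y, hy, hyu⟩
        simp only at hyu
        subst hyu
        rfl }
  have hcount : T * (Nat.card Ω - i) = P * Nat.card (Sw t p₀) := by
    have h1 := Nat.card_congr e
    rw [Nat.card_sigma, Nat.card_sigma, Finset.sum_congr rfl fun p _ => H.card_sw_eq p p₀,
      Finset.sum_const, Finset.card_univ, smul_eq_mul, ← Nat.card_eq_fintype_card] at h1
    rw [← h1]
    have h2 : ∀ y : {y : G // IsConj t y},
        Nat.card {x : Ω // y.1 • x ≠ x} = Nat.card Ω - i := by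
      intro y
      rw [← (H.change y.2).nfix_t, nfix, Nat.card_eq_fintype_card, Nat.card_eq_fintype_card,
        Nat.card_eq_fintype_card, Fintype.card_subtype_compl]
    rw [Finset.sum_congr rfl fun y _ => h2 y, Finset.sum_const, Finset.card_univ, smul_eq_mul,
      hT, Nat.card_eq_fintype_card]
  have hTc' : ∀ p : Pairs Ω,
      Nat.card (Sw t p) * c = Nat.card (twoPt G p.1.1 p.1.2) * (Nat.card Ω - i) := by
    intro p
    have h1 : P * (Nat.card (Sw t p) * c) =
        P * (Nat.card (twoPt G p.1.1 p.1.2) * (Nat.card Ω - i)) := by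
      rw [← mul_assoc, ← mul_assoc, H.card_group p.2, H.card_sw_eq p p₀, ← hcount, ← hTc]
      ring
    exact Nat.eq_of_mul_eq_mul_left hPpos h1
  have hle : ∀ p : Pairs Ω, Nat.card (Sw t p) ≤ Nat.card (twoPt G p.1.1 p.1.2) := by
    intro p
    rcases isEmpty_or_nonempty (Sw t p) with he | ⟨⟨y₀⟩⟩
    · simp
    have hy0 : y₀.1 • p.1.2 = p.1.1 := H.smul_back y₀.2.1 y₀.2.2
    refine Nat.card_le_card_of_injective (fun y : Sw t p =>
      (⟨y₀.1 * y.1, ?_, ?_⟩ : twoPt G p.1.1 p.1.2)) fun y z hyz => ?_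
    · show (y₀.1 * y.1) • p.1.1 = p.1.1
      rw [mul_smul, y.2.2, hy0]
    · show (y₀.1 * y.1) • p.1.2 = p.1.2
      have : y.1 • p.1.2 = p.1.1 := H.smul_back y.2.1 y.2.2
      rw [mul_smul, this, y₀.2.2]
    · exact Subtype.ext (mul_left_cancel (congrArg Subtype.val hyz))
  have hcle := H.card_cent_le
  rw [← hcdef] at hcle
  have hnpos : 0 < Nat.card Ω - i := by have := H.nfix_lt; omega
  have hceq : c = Nat.card Ω - i := by
    refine le_antisymm hcle ?_
    refine Nat.le_of_mul_le_mul_left ?_ (Nat.card_pos (α := twoPt G p₀.1.1 p₀.1.2))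
    rw [← hTc' p₀]
    exact Nat.mul_le_mul_right c (hle p₀)
  refine ⟨hceq, fun {a b} hab {g} hga hgb => ?_⟩
  have hcard : Nat.card (Sw t (⟨(a, b), hab⟩ : Pairs Ω)) = Nat.card (twoPt G a b) := by
    have := hTc' ⟨(a, b), hab⟩
    rw [hceq] at this
    exact Nat.eq_of_mul_eq_mul_right hnpos this
  let φ : Sw t (⟨(a, b), hab⟩ : Pairs Ω) → twoPt G a b := fun y => ⟨g⁻¹ * y.1, by
    show (g⁻¹ * y.1) • a = a
    rw [mul_smul, y.2.2, inv_smul_eq_iff, hga], by
    show (g⁻¹ * y.1) • b = b
    rw [mul_smul, H.smul_back y.2.1 (show y.1 • a = b from y.2.2), inv_smul_eq_iff, hgb]⟩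
  have hφ : Function.Injective φ := fun y z hyz =>
    Subtype.ext (mul_left_cancel (congrArg Subtype.val hyz))
  obtain ⟨y, hy⟩ := (hφ.bijective_of_nat_card_le hcard.ge).2 1
  have hy' : g⁻¹ * y.1 = 1 := congrArg Subtype.val hy
  rw [inv_mul_eq_one.1 hy']
  exact y.2.1

theorem swap_isConj {a b : Ω} (hab : a ≠ b) {g : G} (hga : g • a = b) (hgb : g • b = a) :
    IsConj t g := H.key.2 hab hga hgb

theorem card_cent : Nat.card (centralizer ({t} : Set G)) + i = Nat.card Ω := by
  rw [H.key.1]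
  have := H.nfix_lt
  omega

theorem card_cent' {y : G} (hy : IsConj t y) :
    Nat.card (centralizer ({y} : Set G)) + i = Nat.card Ω := (H.change hy).card_cent

omit [Finite G] [Finite Ω] in
theorem exists_swap {a b : Ω} (hab : a ≠ b) : ∃ g : G, g • a = b ∧ g • b = a :=
  H.two hab hab.symm

/-- Every involution is a conjugate of `t`. -/
theorem isConj_invol {z : G} (hz : orderOf z = 2) : IsConj t z := by
  obtain ⟨x, hx⟩ : ∃ x : Ω, z • x ≠ x := by
    by_contra h
    push Not at h
    exact Invol.ne_one hz (H.faithful z h)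
  exact H.swap_isConj hx (by rw [smul_smul, Invol.mul_self_eq_one hz, one_smul]) rfl

theorem swap_inverts {a b : Ω} (hab : a ≠ b) {g : G} (hga : g • a = b) (hgb : g • b = a)
    {d : G} (hd : d ∈ twoPt G a b) : g * d * g⁻¹ = d⁻¹ := by
  have hg2 := H.invol_of_conj (H.swap_isConj hab hga hgb)
  have hgd := H.invol_of_conj (H.swap_isConj hab (g := g * d)
    (by rw [mul_smul, show d • a = a from hd.1, hga])
    (by rw [mul_smul, show d • b = b from hd.2, hgb]))
  rw [inv_eq_of_mul_eq_one_right hg2]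
  exact eq_inv_of_mul_eq_one_left (by rw [← hgd]; simp [mul_assoc])

/-- Two-point stabilisers are abelian. -/
theorem twoPt_comm {a b : Ω} (hab : a ≠ b) {d e : G} (hd : d ∈ twoPt G a b)
    (he : e ∈ twoPt G a b) : Commute d e := by
  obtain ⟨g, hga, hgb⟩ := H.exists_swap hab
  have h := H.swap_inverts hab hga hgb (mul_mem hd he)
  rw [show g * (d * e) * g⁻¹ = (g * d * g⁻¹) * (g * e * g⁻¹) by group,
    H.swap_inverts hab hga hgb hd, H.swap_inverts hab hga hgb he, ← mul_inv_rev, inv_inj] at h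
  exact h.symm

end Hyp

end Cfsg.Agent.ConstFixInv
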