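import Cfsg.Agent.ConstFixInv.Basic

/-!
The case in which the involutions fix at least two points: then they fix exactly two and no
non-trivial element fixes three.
-/

set_option autoImplicit false
set_option linter.style.haveILetI false
set_option linter.unusedSectionVars false

namespace Cfsg.Agent.ConstFixInv

open Subgroup MulAction Cfsg.Agent.Zassenhaus

variable {G Ω : Type*} [Group G] [MulAction G Ω]

theorem conj_mem_twoPt {g d : G} {a b u v : Ω} (hga : g • a = u) (hgb : g • b = v)
    (hd : d ∈ twoPt G a b) : g * d * g⁻¹ ∈ twoPt G u v :=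
  ⟨by
    show (g * d * g⁻¹) • u = u
    rw [mul_smul, mul_smul, inv_smul_eq_iff.2 hga.symm, show d • a = a from hd.1, hga],
   by
    show (g * d * g⁻¹) • v = v
    rw [mul_smul, mul_smul, inv_smul_eq_iff.2 hgb.symm, show d • b = b from hd.2, hgb]⟩

namespace Hyp

variable {i : ℕ} {t : G} (H : Hyp G Ω i t) [Finite G] [Finite Ω] (hi : 2 ≤ i)
include H hi

/-- A nontrivial element fixing two points fixes exactly `i`. -/
theorem nfix_pair {u v : Ω} (huv : u ≠ v) {d : G} (hd : d ∈ twoPt G u v) (hd1 : d ≠ 1) :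
    nfix Ω d = i := by
  obtain ⟨a, b, hab, hta, htb⟩ := exists_two_of_nfix (g := t) (by rw [H.nfix_t]; exact hi)
  obtain ⟨g, hga, hgb⟩ := H.two hab huv
  exact H.conj_fix (isConj_iff.2 ⟨g, rfl⟩)
    (H.twoPt_comm huv hd (conj_mem_twoPt hga hgb ⟨hta, htb⟩)) hd1

/-- The stabiliser of two fixed points of `t` centralises `t`. -/
theorem comm_of_fixed {a b : Ω} (hab : a ≠ b) (ha : t • a = a) (hb : t • b = b) {d : G}
    (hd : d ∈ twoPt G a b) : Commute d t := H.twoPt_comm hab hd ⟨ha, hb⟩

omit hi in
/-- An element interchanging two fixed points of `t` centralises `t`. -/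
theorem swap_comm {a b : Ω} (hab : a ≠ b) (ha : t • a = a) (hb : t • b = b) {g : G}
    (hga : g • a = b) (hgb : g • b = a) : Commute g t := by
  have h := H.swap_inverts hab hga hgb (d := t) ⟨ha, hb⟩
  rw [Invol.inv_eq_self H.invol, mul_inv_eq_iff_eq_mul] at h
  exact h

omit hi in
theorem fix_comm {g : G} (hg : Commute g t) {x : Ω} (hx : t • x = x) : t • g • x = g • x := by
  rw [smul_smul, ← hg.eq, mul_smul, hx]

theorem exists_cent_smul {u v : Ω} (hu : t • u = u) (hv : t • v = v) :
    ∃ g ∈ centralizer ({t} : Set G), g • u = v := by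
  by_cases huv : u = v
  · exact ⟨1, one_mem _, by rw [one_smul, huv]⟩
  obtain ⟨g, hg1, hg2⟩ := H.exists_swap huv
  exact ⟨g, mem_centralizer_singleton_iff.2 (H.swap_comm huv hu hv hg1 hg2), hg1⟩

/-- The number of fixed points is even. -/
theorem even_i : Even i := by
  obtain ⟨a, b, hab, hta, htb⟩ := exists_two_of_nfix (g := t) (by rw [H.nfix_t]; exact hi)
  obtain ⟨x, hx, hxfree⟩ := exists_derangement (centralizer ({t} : Set G)) (fun x => t • x = x)
    (fun g hg x hx => H.fix_comm (mem_centralizer_singleton_iff.1 hg) hx)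
    (fun u v hu hv => H.exists_cent_smul hi hu hv) hta htb hab
  have hxt : Commute x t := mem_centralizer_singleton_iff.1 hx
  have hx1 : x ≠ 1 := fun e => hxfree a hta (by rw [e, one_smul])
  by_contra hodd
  obtain ⟨p, hp, htp⟩ := exists_fixed_of_odd (Invol.mul_self_eq_one H.invol)
    (fun p : Ω => x • p = p)
    (fun p hp => by rw [smul_smul, hxt.eq, mul_smul, hp])
    (by
      show Odd (nfix Ω x)
      rw [H.fixC x hxt hx1]
      exact Nat.not_even_iff_odd.1 hodd)
  exact hxfree p htp hp

/-- An element of the centraliser fixing one fixed point of `t` fixes another one. -/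
theorem exists_second {g : G} (hg : Commute g t) {a : Ω} (ha : t • a = a) (hga : g • a = a) :
    ∃ b, b ≠ a ∧ t • b = b ∧ g • b = b := by
  by_cases hg1 : g = 1
  · obtain ⟨u, v, huv, hu, hv⟩ := exists_two_of_nfix (g := t) (by rw [H.nfix_t]; exact hi)
    by_cases hua : u = a
    · exact ⟨v, fun e => huv (hua.trans e.symm), hv, by rw [hg1, one_smul]⟩
    · exact ⟨u, hua, hu, by rw [hg1, one_smul]⟩
  obtain ⟨b, hb, htb, hba⟩ := exists_fixed_of_even (Invol.mul_self_eq_one H.invol)
    (fun p : Ω => g • p = p) (fun p hp => by rw [smul_smul, hg.eq, mul_smul, hp])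
    (by
      show Even (nfix Ω g)
      rw [H.fixC g hg hg1]
      exact H.even_i hi) hga ha
  exact ⟨b, hba, htb, hb⟩

/-- If the square of an element of a two-point stabiliser is nontrivial, the involutions of this
stabiliser fix its fixed points. -/
theorem fix_of_sq {u v : Ω} (huv : u ≠ v) {s e : G} (hs : s ∈ twoPt G u v) (hs2 : s * s = 1)
    (he : e ∈ twoPt G u v) (he2 : e * e ≠ 1) {x : Ω} (hx : e • x = x) : s • x = x := by
  have hse : s * e * (s * e) = e * e := by
    rw [(H.twoPt_comm huv he hs).mul_mul_mul_comm, hs2, one_mul]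
  have hse1 : s * e ≠ 1 := fun h => he2 (by rw [← hse, h, mul_one])
  have hx' : (s * e) • x = x := by
    refine fix_eq_of_subset (h := e * e)
      (fun y hy => by rw [← hse, mul_smul, hy, hy]) ?_ (by rw [mul_smul, hx, hx])
    rw [H.nfix_pair hi huv (mul_mem he he) he2, H.nfix_pair hi huv (mul_mem hs he) hse1]
  rwa [mul_smul, hx] at hx'

/-- The stabiliser of two fixed points of `t` fixes all of them. -/
theorem twoPt_fix {a b : Ω} (hab : a ≠ b) (hta : t • a = a) (htb : t • b = b) {d : G}
    (hd : d ∈ twoPt G a b) {c : Ω} (hc : t • c = c) : d • c = c := by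
  by_contra hdc
  have ht2 := Invol.mul_self_eq_one H.invol
  have htD : t ∈ twoPt G a b := ⟨hta, htb⟩
  have hfull : ∀ {e : G}, e ∈ twoPt G a b → e * e ≠ 1 → ∀ x : Ω, t • x = x → e • x = x :=
    fun {e} he he2 x hx => by
    refine fix_eq_of_subset (h := t) (fun y hy => H.fix_of_sq hi hab htD ht2 he he2 hy) ?_ hx
    rw [H.nfix_t, H.nfix_pair hi hab he fun h => he2 (by rw [h, one_mul])]
  have hd2 : d * d = 1 := by
    by_contra h
    exact hdc (hfull hd h c hc)
  have hexp : ∀ e ∈ twoPt G a b, e * e = 1 := fun e he => by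
    by_contra h
    exact hdc (H.fix_of_sq hi hab hd hd2 he h (hfull he h c hc))
  have hC2 : ∀ g : G, Commute g t → g * g = 1 := fun g hg => by
    by_cases hg1 : g = 1
    · rw [hg1, one_mul]
    obtain ⟨u, v, huv, hu, hv⟩ := exists_two_of_nfix (g := g) (by rw [H.fixC g hg hg1]; exact hi)
    obtain ⟨k, hku, hkv⟩ := H.two huv hab
    have h := hexp _ (conj_mem_twoPt hku hkv ⟨hu, hv⟩)
    rw [show k * g * k⁻¹ * (k * g * k⁻¹) = k * (g * g) * k⁻¹ by group] at h
    exact conj_eq_one_iff.1 h
  obtain ⟨g, hg, hga⟩ := H.exists_cent_smul hi hta hc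
  have hgt : Commute g t := mem_centralizer_singleton_iff.1 hg
  have hdt := H.comm_of_fixed hi hab hta htb hd
  have hdg : d * g = g * d := by
    rw [← inv_eq_of_mul_eq_one_right (hC2 _ (hdt.mul_left hgt)), mul_inv_rev,
      inv_eq_of_mul_eq_one_right (hC2 g hgt), inv_eq_of_mul_eq_one_right hd2]
  apply hdc
  rw [← hga, smul_smul, hdg, mul_smul, show d • a = a from hd.1]

/-- Centralising elements fixing one fixed point fix all. -/
theorem cent_fix {g : G} (hg : Commute g t) {a : Ω} (ha : t • a = a) (hga : g • a = a) {c : Ω}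
    (hc : t • c = c) : g • c = c := by
  obtain ⟨b, hba, htb, hgb⟩ := H.exists_second hi hg ha hga
  exact H.twoPt_fix hi hba.symm ha htb ⟨hga, hgb⟩ hc

theorem card_cent_eq {a b : Ω} (hab : a ≠ b) (hta : t • a = a) (htb : t • b = b) :
    Nat.card (centralizer ({t} : Set G)) = i * Nat.card (twoPt G a b) := by
  classical
  have hex : ∀ x : {x : Ω // t • x = x}, ∃ g ∈ centralizer ({t} : Set G), g • a = x.1 :=
    fun x => H.exists_cent_smul hi hta x.2
  choose h hh1 hh2 using hex
  conv_rhs => rw [← H.nfix_t, nfix, ← Nat.card_prod]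
  refine Nat.card_congr
    { toFun := fun g => (⟨(g : G) • a, H.fix_comm (mem_centralizer_singleton_iff.1 g.2) hta⟩,
        ⟨(h ⟨(g : G) • a, H.fix_comm (mem_centralizer_singleton_iff.1 g.2) hta⟩)⁻¹ * g, ?_, ?_⟩)
      invFun := fun xd => ⟨h xd.1 * (xd.2 : G), mul_mem (hh1 _)
        (mem_centralizer_singleton_iff.2 (H.comm_of_fixed hi hab hta htb xd.2.2))⟩
      left_inv := fun g => Subtype.ext (mul_inv_cancel_left _ _)
      right_inv := fun xd => ?_ }
  · show ((h _)⁻¹ * (g : G)) • a = a
    rw [mul_smul, inv_smul_eq_iff, hh2]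
  · show ((h _)⁻¹ * (g : G)) • b = b
    refine H.cent_fix hi (mem_centralizer_singleton_iff.1 (mul_mem (inv_mem (hh1 _)) g.2)) hta ?_ htb
    rw [mul_smul, inv_smul_eq_iff, hh2]
  · obtain ⟨x, d⟩ := xd
    have hx : (⟨(h x * (d : G)) • a, H.fix_comm (mem_centralizer_singleton_iff.1
        (mul_mem (hh1 x) (mem_centralizer_singleton_iff.2
          (H.comm_of_fixed hi hab hta htb d.2)))) hta⟩ : {x : Ω // t • x = x}) = x :=
      Subtype.ext (by
        show (h x * (d : G)) • a = x.1
        rw [mul_smul, show (d : G) • a = a from d.2.1, hh2])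
    refine Prod.ext hx (Subtype.ext ?_)
    show (h _)⁻¹ * (h x * (d : G)) = d
    rw [hx, inv_mul_cancel_left]

/-- More than two fixed points force all the centralising elements to be involutions. -/
theorem exponent_two (hi3 : 3 ≤ i) {g : G} (hg : Commute g t) : g * g = 1 := by
  classical
  haveI := Fintype.ofFinite Ω
  obtain ⟨a, b, hab, hta, htb⟩ := exists_two_of_nfix (g := t) (by rw [H.nfix_t]; exact hi)
  have key : ∀ {x : G}, Commute x t → x • a ≠ a → x * x = 1 ∧
      ∀ d ∈ twoPt G a b, x * d * x⁻¹ = d⁻¹ := by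
    intro x hx hxa
    have htu := H.fix_comm hx hta
    obtain ⟨y, hy1, hy2⟩ := H.exists_swap (Ne.symm hxa)
    have hyt := H.swap_comm (Ne.symm hxa) hta htu hy1 hy2
    have hfix : (y * x) • a = a := by rw [mul_smul, hy2]
    have h2 := H.cent_fix hi (hyt.mul_left hx) hta hfix htu
    rw [mul_smul] at h2
    have hxu : x • x • a = a := MulAction.injective y (h2.trans hy1.symm)
    refine ⟨H.invol_of_conj (H.swap_isConj (Ne.symm hxa) rfl hxu), fun d hd =>
      H.swap_inverts (Ne.symm hxa) rfl hxu ⟨hd.1, H.twoPt_fix hi hab hta htb hd htu⟩⟩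
  obtain ⟨c, hca, hcb, hc⟩ : ∃ c, c ≠ a ∧ c ≠ b ∧ t • c = c := by
    by_contra hcon
    push Not at hcon
    have hsub : (Finset.univ.filter fun x : Ω => t • x = x) ⊆ {a, b} := fun x hx => by
      rw [Finset.mem_insert, Finset.mem_singleton]
      by_contra h
      push Not at h
      exact hcon x h.1 h.2 (Finset.mem_filter.1 hx).2
    have h1 := (Finset.card_le_card hsub).trans Finset.card_le_two
    rw [← Fintype.card_subtype, ← Nat.card_eq_fintype_card] at h1
    have := H.nfix_t
    rw [nfix] at this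
    omega
  have hD : ∀ d ∈ twoPt G a b, d * d = 1 := by
    intro d hd
    obtain ⟨y, hy1, hy2⟩ := H.exists_swap hab
    obtain ⟨z, hz1, hz2⟩ := H.exists_swap (Ne.symm hca)
    have hyt := H.swap_comm hab hta htb hy1 hy2
    have hzt := H.swap_comm (Ne.symm hca) hta hc hz1 hz2
    have hyz : (y * z) • a ≠ a := by
      rw [mul_smul, hz1]
      exact fun e => hcb (MulAction.injective y (e.trans hy2.symm))
    have h1 := (key (hyt.mul_left hzt) hyz).2 d hd
    have h2 := (key hyt (by rw [hy1]; exact hab.symm)).2 d hd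
    have h3 := (key hzt (by rw [hz1]; exact hca)).2 d hd
    have h4 : y * z * d * (y * z)⁻¹ = d := by
      calc y * z * d * (y * z)⁻¹ = y * (z * d * z⁻¹) * y⁻¹ := by group
        _ = (y * d * y⁻¹)⁻¹ := by rw [h3]; group
        _ = d := by rw [h2, inv_inv]
    rw [h4] at h1
    exact mul_eq_one_iff_eq_inv.2 h1
  by_cases hga : g • a = a
  · exact hD g ⟨hga, H.cent_fix hi hg hta hga htb⟩
  · exact (key hg hga).1

/-- The involutions fix exactly two points. -/
theorem eq_two : i = 2 := by
  classical
  haveI := Fintype.ofFinite Ω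
  haveI := Fintype.ofFinite G
  by_contra hne
  have hi3 : 3 ≤ i := by omega
  obtain ⟨a, b, hab, hta, htb⟩ := exists_two_of_nfix (g := t) (by rw [H.nfix_t]; exact hi)
  set D := Nat.card (twoPt G a b) with hDdef
  set n := Nat.card Ω with hn
  set T := Nat.card {y : G // IsConj t y} with hT
  have hc := H.card_cent_eq hi hab hta htb
  have hn' := H.card_cent
  rw [hc, ← hDdef, ← hn] at hn'
  have hDpos : 0 < D := Nat.card_pos
  -- number of pairs
  have hP : Nat.card (Pairs Ω) = n * (n - 1) := by
    rw [← Nat.card_congr (Equiv.subtypeProdEquivSigmaSubtype (fun u v : Ω => u ≠ v)).symm,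
      Nat.card_sigma, Finset.sum_congr rfl fun u _ => ?_, Finset.sum_const, Finset.card_univ,
      smul_eq_mul, ← Nat.card_eq_fintype_card]
    rw [Nat.card_eq_fintype_card, show n = Fintype.card Ω from Nat.card_eq_fintype_card,
      Fintype.card_subtype_compl, Fintype.card_subtype_eq']
  have hTc : T * (i * D) = n * (n - 1) * D := by
    rw [← hP, hDdef, ← hc, H.card_group hab]
    exact Invol.card_isConj_mul_card_centralizer t
  -- pairs fixed by an involution
  have hFix : T * (i * (i - 1)) = n * (n - 1) * (D - 1) := by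
    have e : (Σ y : {y : G // IsConj t y},
          {p : {x : Ω // y.1 • x = x} × {x : Ω // y.1 • x = x} // p.1 ≠ p.2}) ≃
        Σ p : Pairs Ω, {e : twoPt G p.1.1 p.1.2 // e ≠ 1} :=
      { toFun := fun s => ⟨⟨(s.2.1.1.1, s.2.1.2.1), fun e => s.2.2 (Subtype.ext e)⟩,
          ⟨⟨s.1.1, s.2.1.1.2, s.2.1.2.2⟩, fun e => Invol.ne_one
            (Invol.orderOf_eq_two_of_isConj s.1.2 H.invol) (congrArg Subtype.val e)⟩⟩
        invFun := fun s => ⟨⟨s.2.1.1, H.isConj_invol (Invol.orderOf_eq_two_iff.2
            ⟨fun e => s.2.2 (Subtype.ext e), by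
              obtain ⟨k, hk1, hk2⟩ := H.two s.1.2 hab
              have hm := conj_mem_twoPt hk1 hk2 s.2.1.2
              have h := H.exponent_two hi hi3 (H.comm_of_fixed hi hab hta htb hm)
              rw [show k * (s.2.1.1) * k⁻¹ * (k * (s.2.1.1) * k⁻¹) =
                k * (s.2.1.1 * s.2.1.1) * k⁻¹ by group] at h
              exact conj_eq_one_iff.1 h⟩)⟩,
          ⟨(⟨s.1.1.1, s.2.1.2.1⟩, ⟨s.1.1.2, s.2.1.2.2⟩), fun e => s.1.2 (congrArg Subtype.val e)⟩⟩
        left_inv := fun _ => rfl
        right_inv := fun _ => rfl }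
    have h1 := Nat.card_congr e
    have hr : ∀ p : Pairs Ω, Nat.card {e : twoPt G p.1.1 p.1.2 // e ≠ 1} = D - 1 := by
      intro p
      have h2 := H.card_group p.2
      rw [← H.card_group hab] at h2
      haveI : Nonempty (Pairs Ω) := ⟨p⟩
      have h3 := Nat.eq_of_mul_eq_mul_left Nat.card_pos h2
      rw [hDdef, ← h3, Nat.card_eq_fintype_card, Nat.card_eq_fintype_card,
        Fintype.card_subtype_compl, Fintype.card_subtype_eq]
    have hl : ∀ y : {y : G // IsConj t y},
        Nat.card {p : {x : Ω // y.1 • x = x} × {x : Ω // y.1 • x = x} // p.1 ≠ p.2} =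
          i * (i - 1) := by
      intro y
      have hy := (H.change y.2).nfix_t
      unfold nfix at hy
      rw [← Nat.card_congr (Equiv.subtypeProdEquivSigmaSubtype
          (fun u v : {x : Ω // y.1 • x = x} => u ≠ v)).symm,
        Nat.card_sigma, Finset.sum_congr rfl fun u _ => (?_ : _ = i - 1), Finset.sum_const,
        Finset.card_univ, smul_eq_mul, ← Nat.card_eq_fintype_card, hy]
      rw [Nat.card_eq_fintype_card, Fintype.card_subtype_compl, Fintype.card_subtype_eq',
        ← Nat.card_eq_fintype_card, hy]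
    rw [Nat.card_sigma, Nat.card_sigma] at h1
    simp only [hl, hr, Finset.sum_const, Finset.card_univ, smul_eq_mul,
      ← Nat.card_eq_fintype_card] at h1
    rw [← hT, hP] at h1
    exact h1
  -- the classes split according to the centraliser
  have hdvd : i * D - 1 ∣ T := by
    have hexp : ∀ (y : {y : G // IsConj t y}), ∀ g : G, Commute g y.1 → g * g = 1 :=
      fun y g hg => (H.change y.2).exponent_two hi hi3 hg
    let f : {y : G // IsConj t y} → Subgroup G := fun y => centralizer ({y.1} : Set G)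
    have hfib : ∀ C : Set.range f, Nat.card {y : {y : G // IsConj t y} // f y = C.1} = i * D - 1 := by
      rintro ⟨_, y, rfl⟩
      have hcard : ∀ u : {y : G // IsConj t y}, Nat.card (f u) = i * D := fun u => by
        have := H.card_cent' u.2
        show Nat.card (centralizer ({u.1} : Set G)) = _
        omega
      have hsame : ∀ w : G, w ∈ f y → ∀ hw : IsConj t w, f ⟨w, hw⟩ = f y := by
        intro w hwy hw
        symm
        refine Subgroup.eq_of_le_of_card_ge (fun g hg => mem_centralizer_singleton_iff.2 ?_)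
          (by rw [hcard, hcard])
        have h1 : Commute g y.1 := mem_centralizer_singleton_iff.1 hg
        have h2 : Commute w y.1 := mem_centralizer_singleton_iff.1 hwy
        have h3 := hexp y _ (h1.mul_left h2)
        rw [← inv_eq_of_mul_eq_one_right h3, mul_inv_rev,
          inv_eq_of_mul_eq_one_right (hexp y g h1), inv_eq_of_mul_eq_one_right (hexp y w h2)]
      have e : {w : {y : G // IsConj t y} // f w = f y} ≃ {g : f y // g ≠ 1} :=
        { toFun := fun w => ⟨⟨w.1.1, le_of_eq w.2
            (mem_centralizer_singleton_iff.2 rfl : w.1.1 ∈ f w.1)⟩, fun e =>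
            Invol.ne_one (Invol.orderOf_eq_two_of_isConj w.1.2 H.invol) (congrArg Subtype.val e)⟩
          invFun := fun g => ⟨⟨g.1.1, H.isConj_invol (Invol.orderOf_eq_two_iff.2
            ⟨fun e => g.2 (Subtype.ext e), hexp y _ (mem_centralizer_singleton_iff.1 g.1.2)⟩)⟩,
            hsame _ g.1.2 _⟩
          left_inv := fun _ => rfl
          right_inv := fun _ => rfl }
      rw [Nat.card_congr e, Nat.card_eq_fintype_card, Fintype.card_subtype_compl,
        Fintype.card_subtype_eq, ← Nat.card_eq_fintype_card, hcard]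
    refine ⟨Nat.card (Set.range f), ?_⟩
    have e : (Σ C : Set.range f, {y : {y : G // IsConj t y} // f y = C.1}) ≃
        {y : G // IsConj t y} :=
      { toFun := fun s => s.2.1
        invFun := fun y => ⟨⟨f y, y, rfl⟩, y, rfl⟩
        left_inv := by
          rintro ⟨⟨C, hC⟩, y, hy⟩
          simp only at hy
          subst hy
          rfl
        right_inv := fun _ => rfl }
    haveI := Fintype.ofFinite (Set.range f)
    rw [hT, ← Nat.card_congr e, Nat.card_sigma, Finset.sum_congr rfl fun C _ => hfib C,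
      Finset.sum_const, Finset.card_univ, smul_eq_mul, ← Nat.card_eq_fintype_card, mul_comm]
  -- arithmetic
  obtain ⟨j, rfl⟩ : ∃ j, i = j + 3 := ⟨i - 3, by omega⟩
  obtain ⟨k, hk⟩ : ∃ k, D = k + 1 := ⟨D - 1, by omega⟩
  rw [hk] at hTc hFix hdvd hn'
  obtain ⟨m, hm⟩ : ∃ m, n = m + 1 := ⟨n - 1, by have := H.nfix_lt; omega⟩
  rw [hm] at hTc hFix hn'
  simp only [Nat.add_sub_cancel, show j + 3 - 1 = j + 2 by omega] at hTc hFix
  have hT' : T = (k + 2) * m := by
    have : T * ((j + 3) * (k + 1)) = (k + 2) * m * ((j + 3) * (k + 1)) := by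
      rw [hTc, ← hn']; ring
    exact Nat.eq_of_mul_eq_mul_right (by positivity) this
  have hkj : k = j + 2 := by
    have h1 : (k + 2) * m * ((j + 3) * (j + 2)) = (j + 3) * (k + 2) * m * k := by
      rw [← hT', hFix, ← hn']; ring
    have h2 : (j + 2) * ((k + 2) * (j + 3) * m) = k * ((k + 2) * (j + 3) * m) := by
      linear_combination h1
    have hm0 : 0 < m := by nlinarith
    exact (Nat.eq_of_mul_eq_mul_right (by positivity) h2).symm
  subst hkj
  rw [hT'] at hdvd
  have hq : (j + 3) * (j + 2 + 1) - 1 = (j + 2) * (j + 4) := by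
    have : (j + 3) * (j + 2 + 1) = (j + 2) * (j + 4) + 1 := by ring
    omega
  have hm' : m = (j + 2) * (j + 5) + 1 := by nlinarith
  rw [hq, hm', mul_comm (j + 2) (j + 4), show j + 2 + 2 = j + 4 by ring] at hdvd
  have h2 := Nat.dvd_of_mul_dvd_mul_left (by omega) hdvd
  have h3 := (Nat.dvd_add_right (dvd_mul_right (j + 2) (j + 5))).1 h2
  have := Nat.le_of_dvd one_pos h3
  omega

/-- No nontrivial element fixes three points. -/
theorem three_of_big {d : G} {a b c : Ω} (hab : a ≠ b) (hac : a ≠ c) (hbc : b ≠ c)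
    (ha : d • a = a) (hb : d • b = b) (hc : d • c = c) : d = 1 := by
  classical
  haveI := Fintype.ofFinite Ω
  by_contra hd1
  have h := H.nfix_pair hi hab ⟨ha, hb⟩ hd1
  rw [H.eq_two hi, nfix, Nat.card_eq_fintype_card, Fintype.card_subtype] at h
  have h3 : 2 < (Finset.univ.filter fun x : Ω => d • x = x).card :=
    Finset.two_lt_card_iff.2 ⟨a, b, c, by simpa using ha, by simpa using hb, by simpa using hc,
      hab, hac, hbc⟩
  omega

end Hyp

end Cfsg.Agent.ConstFixInv
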