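import Cfsg.Agent.ConstFixInv.Small
import Cfsg.Agent.ConstFixInv.Big
import Cfsg.Agent.S0339
import Cfsg.Agent.S0340
import Cfsg.Agent.SuzukiUniq.Iso

/-!
Doubly transitive groups with an involution whose centraliser has constant fixity: `PSL(2, q)`,
a Suzuki group, or a regular normal subgroup.
-/

set_option autoImplicit false
set_option linter.style.haveILetI false
set_option linter.unusedSectionVars false

namespace Cfsg.Agent.ConstFixInv

open Subgroup MulAction Cfsg.Agent.Zassenhaus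

variable {G Ω : Type*} [Group G] [MulAction G Ω] [Finite G] [Finite Ω]

/-- A simple Zassenhaus group is `PSL(2, q)` or a Suzuki group. -/
theorem psl_or_suzuki [IsSimpleGroup G] (hZ : Cfsg.IsZassenhausGroup G Ω) :
    (∃ (F : Type) (_ : Field F) (_ : Fintype F),
      Nonempty (G ≃* Matrix.ProjectiveSpecialLinearGroup (Fin 2) F)) ∨ Cfsg.Lie.IsoSuzuki G := by
  classical
  haveI := Fintype.ofFinite Ω
  have C := zctx_of_zassenhaus hZ
  have h3 := three_le_of_zassenhaus hZ
  haveI : Nonempty Ω := (Nat.card_pos_iff.1 (by omega)).1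
  obtain ⟨a⟩ := ‹Nonempty Ω›
  obtain ⟨b, hba⟩ := Fintype.exists_ne_of_one_lt_card (by rw [← Nat.card_eq_fintype_card]; omega) a
  have hab : a ≠ b := Ne.symm hba
  rcases Nat.even_or_odd (Nat.card (twoPt G a b)) with heven | hodd
  · obtain ⟨K, iK, iFK, -, hiso⟩ := S0344.result hZ hab heven
    exact Or.inl ⟨K, iK, iFK, hiso⟩
  have hne := twoPt_ne_bot_of_zassenhaus hZ hab
  obtain ⟨F, hF⟩ := C.exists_kernel h3 hab hne
  have hn := hF.card_eq hab
  by_cases hFc : ∀ x ∈ F, ∀ y ∈ F, x * y = y * x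
  · rcases abelian_kernel_cases hZ hab hF hFc with hfull |
      ⟨-, p, f, K, iK, iFK, -, -, -, -, hiso⟩
    · have hΩodd : Odd (Nat.card Ω) := by
        rw [← hfull]
        exact hodd.add_even even_two
      obtain ⟨f, K, iK, iFK, hf, hK, -, ⟨e⟩, -⟩ := C.identify_even h3 hΩodd
        (exists_map_three (C.three_transitive_of_full hab hfull))
      obtain ⟨χ⟩ := Fg24.Brauer.nonempty_sl_equiv_psl (F := K)
        (by rw [hK]; exact Nat.even_pow.2 ⟨even_two, by omega⟩)
      exact Or.inl ⟨K, iK, iFK, ⟨e.trans χ⟩⟩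
    · exact Or.inl ⟨K, iK, iFK, hiso⟩
  push Not at hFc
  obtain ⟨u, hu, v, hv, huv⟩ := hFc
  have hfix : ∀ w ∈ F, w ≠ 1 → ∀ c : Ω, w • c = c → c = a := fun w hw hw1 c hc =>
    by_contra fun hca => hw1 (hF.eq_one_of_fix hw hca hc)
  rcases S0885.result hZ hab (Nat.card F) (Nat.card (twoPt G a b))
      (by rw [← Nat.card_eq_fintype_card]; omega) rfl hodd F (fun w hw => hF.fix w hw)
      (by rw [← Nat.card_eq_fintype_card]; omega) hfix with hsmall | ⟨h2, -, -⟩
  · exact absurd (congrArg Subtype.val ((hF.elementary C hab h3 (by omega)).1.is_comm.comm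
      (⟨u, hu⟩ : F) ⟨v, hv⟩)) huv
  · exact Or.inr (SuzukiUniq.isoSuzuki_of_zassenhaus hZ hab hF h2 ⟨u, hu, v, hv, huv⟩)

namespace Hyp

variable {i : ℕ} {t : G} (H : Hyp G Ω i t)
include H

theorem three_or_regular : HasRegularNormal G Ω ∨
    ∀ (g : G) (a b c : Ω), a ≠ b → b ≠ c → a ≠ c → g • a = a → g • b = b → g • c = c → g = 1 := by
  refine or_iff_not_imp_right.2 fun h => ?_
  push Not at h
  obtain ⟨g, a, b, c, hab, hbc, hac, ha, hb, hc, hg⟩ := h
  rcases (show i = 0 ∨ i = 1 ∨ 2 ≤ i by omega) with hi | hi | hi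
  · exact absurd (H.three_of_zero hi hab hac hbc ha hb hc) hg
  · exact H.regular_of_one hi hg hab hac hbc ha hb hc
  · exact absurd (H.three_of_big hi hab hac hbc ha hb hc) hg

theorem simple (hZ : Cfsg.IsZassenhausGroup G Ω) : IsSimpleGroup G := by
  haveI : Nontrivial G := ⟨⟨t, 1, Invol.ne_one H.invol⟩⟩
  refine { eq_bot_or_eq_top_of_normal := fun N hN => ?_ }
  refine or_iff_not_imp_left.2 fun hne => ?_
  haveI := hN
  have hC := zctx_of_zassenhaus (S0339.result hZ N hne)
  have hswap : ∀ {a b : Ω}, a ≠ b → ∃ g ∈ N, g • a = b ∧ g • b = a := fun hab => by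
    obtain ⟨g, hg1, hg2⟩ := hC.two hab (Ne.symm hab)
    exact ⟨g, g.2, hg1, hg2⟩
  obtain ⟨x, hx⟩ := H.exists_moved
  obtain ⟨g, hgN, hg1, hg2⟩ := hswap hx
  have htN : t ∈ N := by
    obtain ⟨k, hk⟩ := isConj_iff.1 (H.swap_isConj hx hg1 hg2)
    have h := hN.conj_mem g hgN k⁻¹
    rwa [← hk, show k⁻¹ * (k * t * k⁻¹) * k⁻¹⁻¹ = t by group] at h
  have hall : ∀ y : G, IsConj t y → y ∈ N := fun y hy => by
    obtain ⟨k, rfl⟩ := isConj_iff.1 hy
    exact hN.conj_mem t htN k
  rw [eq_top_iff]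
  intro g _
  set a := t • x
  obtain ⟨n, hn1, hn2⟩ := hC.two hx (u := g • a) (v := g • x)
    fun e => hx (MulAction.injective g e)
  obtain ⟨s, hs1, hs2⟩ := H.exists_swap hx
  have hd : ((n : G)⁻¹ * g) ∈ twoPt G a x := ⟨by
    show ((n : G)⁻¹ * g) • a = a
    rw [mul_smul, inv_smul_eq_iff]; exact hn1.symm, by
    show ((n : G)⁻¹ * g) • x = x
    rw [mul_smul, inv_smul_eq_iff]; exact hn2.symm⟩
  have h1 := hall _ (H.swap_isConj hx hs1 hs2)
  have h2 := hall _ (H.swap_isConj hx (g := s * ((n : G)⁻¹ * g))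
    (by rw [mul_smul, show ((n : G)⁻¹ * g) • a = a from hd.1, hs1])
    (by rw [mul_smul, show ((n : G)⁻¹ * g) • x = x from hd.2, hs2]))
  have h3 := mul_mem (n : N).2 (mul_mem (inv_mem h1) h2)
  rwa [inv_mul_cancel_left, mul_inv_cancel_left] at h3

/-- The conclusion. -/
theorem classify :
    (∃ (F : Type) (_ : Field F) (_ : Fintype F),
      Nonempty (G ≃* Matrix.ProjectiveSpecialLinearGroup (Fin 2) F)) ∨
    Cfsg.Lie.IsoSuzuki G ∨ HasRegularNormal G Ω := by
  by_cases hreg : HasRegularNormal G Ω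
  · exact Or.inr (Or.inr hreg)
  have hthree := H.three_or_regular.resolve_left hreg
  have hZ : Cfsg.IsZassenhausGroup G Ω := by
    refine ⟨⟨fun {g h} e => ?_⟩, is_two_pretransitive_iff.2 fun {a b c d} hab hcd => H.two hab hcd,
      hthree, ?_, fun N hN hNt => ?_⟩
    · refine (inv_mul_eq_one.1 (H.faithful (h⁻¹ * g) fun x => ?_)).symm
      rw [mul_smul, e x, inv_smul_smul]
    · by_contra hno
      push Not at hno
      refine hreg (H.regular_of_sharp fun {a b} hab => eq_bot_iff.2 fun g hg => ?_)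
      rw [mem_bot]
      by_contra hg1
      exact hno g hg1 a b hab hg.1 hg.2
    · by_contra hcon
      push Not at hcon
      refine hreg ⟨N, hN, fun x y => ?_, fun x r hr hrx => ?_⟩
      · obtain ⟨r, hr⟩ := hNt.exists_smul_eq x y
        exact ⟨r, r.2, hr⟩
      · have h : (⟨r, hr⟩ : N) ∈ stabilizer N x := hrx
        rw [hcon x, mem_bot] at h
        exact congrArg Subtype.val h
  haveI := H.simple hZ
  rcases psl_or_suzuki hZ with h | h
  · exact Or.inl h
  · exact Or.inr (Or.inl h)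

end Hyp

end Cfsg.Agent.ConstFixInv
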