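import Cfsg.Agent.ConstFixInv.Basic
import Cfsg.Agent.Invol.ZStar

/-!
The cases in which the involutions fix at most one point: either no non-trivial element fixes
three points or there is a regular normal subgroup.
-/

set_option autoImplicit false
set_option linter.style.haveILetI false
set_option linter.unusedSectionVars false

namespace Cfsg.Agent.ConstFixInv

open Subgroup MulAction Cfsg.Agent.Zassenhaus

variable {G Ω : Type*} [Group G] [MulAction G Ω]

variable (G Ω) in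
/-- Existence of a regular normal subgroup. -/
def HasRegularNormal : Prop :=
  ∃ R : Subgroup G, R.Normal ∧ (∀ x y : Ω, ∃ r ∈ R, r • x = y) ∧
    ∀ x : Ω, ∀ r ∈ R, r • x = x → r = 1

namespace Hyp

variable {i : ℕ} {t : G} (H : Hyp G Ω i t) [Finite G] [Finite Ω]
include H

omit [Finite G] [Finite Ω] in
theorem exists_smul (x y : Ω) : ∃ g : G, g • x = y := by
  by_cases hxy : x = y
  · exact ⟨1, by rw [one_smul, hxy]⟩
  · obtain ⟨g, hg, -⟩ := H.two hxy (Ne.symm hxy)
    exact ⟨g, hg⟩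

/-- An abelian nontrivial normal subgroup is regular. -/
theorem regular_of_comm {M : Subgroup G} (hM : M.Normal) (hne : M ≠ ⊥)
    (hcomm : ∀ a ∈ M, ∀ b ∈ M, Commute a b) : HasRegularNormal G Ω := by
  obtain ⟨m, hm, hm1⟩ := M.bot_or_exists_ne_one.resolve_left hne
  obtain ⟨x₀, hx₀⟩ : ∃ x : Ω, m • x ≠ x := by
    by_contra h
    push Not at h
    exact hm1 (H.faithful m h)
  have htr0 : ∀ u : Ω, ∃ r ∈ M, r • x₀ = u := by
    intro u
    by_cases hu : u = x₀
    · exact ⟨1, one_mem _, by rw [one_smul, hu]⟩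
    obtain ⟨g, hg1, hg2⟩ := H.two (Ne.symm hx₀) (Ne.symm hu)
    refine ⟨g * m * g⁻¹, hM.conj_mem m hm g, ?_⟩
    rw [mul_smul, mul_smul, inv_smul_eq_iff.2 hg1.symm, hg2]
  refine ⟨M, hM, fun x y => ?_, fun x r hr hrx => H.faithful r fun y => ?_⟩
  · obtain ⟨r, hr, hrx⟩ := htr0 x
    obtain ⟨s, hs, hsy⟩ := htr0 y
    exact ⟨s * r⁻¹, mul_mem hs (inv_mem hr), by rw [mul_smul, inv_smul_eq_iff.2 hrx.symm, hsy]⟩
  · obtain ⟨p, hp, hpx⟩ := htr0 x
    obtain ⟨s, hs, hsy⟩ := htr0 y
    have hc : Commute r (s * p⁻¹) := hcomm r hr _ (mul_mem hs (inv_mem hp))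
    have he : (s * p⁻¹) • x = y := by rw [mul_smul, inv_smul_eq_iff.2 hpx.symm, hsy]
    rw [← he, smul_smul, hc.eq, ← smul_smul, hrx]

/-- Trivial two-point stabilisers give a regular normal subgroup. -/
theorem regular_of_sharp (hD : ∀ {a b : Ω}, a ≠ b → twoPt G a b = ⊥) :
    HasRegularNormal G Ω := by
  obtain ⟨a, ha⟩ := H.exists_moved
  set L := stabilizer G a with hL
  have free : ∀ {g : G} {x y : Ω}, x ≠ y → g • x = x → g • y = y → g = 1 := fun hxy hx hy => by
    have h : _ ∈ twoPt G _ _ := ⟨hx, hy⟩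
    rwa [hD hxy, mem_bot] at h
  by_cases hbot : L = ⊥
  · refine ⟨⊤, inferInstance, fun x y => ?_, fun x r _ hr => ?_⟩
    · obtain ⟨g, hg⟩ := H.exists_smul x y
      exact ⟨g, mem_top g, hg⟩
    · obtain ⟨g, hg⟩ := H.exists_smul x a
      have h : g * r * g⁻¹ ∈ L := by
        show (g * r * g⁻¹) • a = a
        rw [mul_smul, mul_smul, inv_smul_eq_iff.2 hg.symm, hr, hg]
      rw [hbot, mem_bot] at h
      exact conj_eq_one_iff.1 h
  have htop : L ≠ ⊤ := fun e => by
    obtain ⟨g, hg⟩ := H.exists_smul a (t • a)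
    have hgL : g ∈ L := e ▸ mem_top g
    exact ha (hg.symm.trans hgL)
  have hF : Cfsg.IsFrobeniusComplement L := by
    refine Core.isFrobeniusComplement_of_malnormal hbot htop fun g hg h hh hc => ?_
    refine free (x := a) (y := g⁻¹ • a) (fun e => hg ?_) hh ?_
    · show g • a = a
      rw [e, smul_inv_smul]
      exact e
    · have hc' : (g * h * g⁻¹) • a = a := hc
      rw [mul_smul, mul_smul] at hc'
      exact eq_inv_smul_iff.2 hc'
  obtain ⟨N, hNk, hNn, hNc⟩ := Core.exists_frobeniusKernel hF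
  refine ⟨N, hNn, fun x y => ?_, fun x r hr hrx => ?_⟩
  · have key : ∀ u : Ω, ∃ r ∈ N, r • a = u := fun u => by
      obtain ⟨g, hg⟩ := H.exists_smul a u
      obtain ⟨⟨r, l⟩, hrl, -⟩ := isComplement_iff_existsUnique.1 hNc g
      refine ⟨r, r.2, ?_⟩
      rw [← hg, ← hrl, mul_smul, show (l : G) • a = a from l.2]
    obtain ⟨r, hr, hrx⟩ := key x
    obtain ⟨s, hs, hsy⟩ := key y
    exact ⟨s * r⁻¹, mul_mem hs (inv_mem hr), by rw [mul_smul, inv_smul_eq_iff.2 hrx.symm, hsy]⟩
  · obtain ⟨g, hg⟩ := H.exists_smul x a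
    have h : g * r * g⁻¹ ∈ L ⊓ N := ⟨by
      show (g * r * g⁻¹) • a = a
      rw [mul_smul, mul_smul, inv_smul_eq_iff.2 hg.symm, hrx, hg], hNn.conj_mem r hr g⟩
    rw [inf_comm, hNc.disjoint.eq_bot, mem_bot] at h
    exact conj_eq_one_iff.1 h

/-- A nontrivial element of odd order in the centraliser of no involution. -/
theorem odd_centralizer (hi : i ≤ 1) {d : G} {a b : Ω} (hab : a ≠ b) (hda : d • a = a)
    (hdb : d • b = b) (hd1 : d ≠ 1) : Odd (Nat.card (centralizer ({d} : Set G))) := by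
  rw [← Nat.not_even_iff_odd]
  intro he
  haveI : Fact (Nat.Prime 2) := ⟨Nat.prime_two⟩
  obtain ⟨z, hz⟩ := exists_prime_orderOf_dvd_card' 2 (even_iff_two_dvd.1 he)
  have hz' : orderOf (z : G) = 2 := by rw [Subgroup.orderOf_coe]; exact hz
  have := H.conj_fix (H.isConj_invol hz') (g := d)
    (Commute.symm (mem_centralizer_singleton_iff.1 z.2)) hd1
  have := two_le_nfix hab hda hdb
  omega

/-- From three fixed points of `d`, an involution inverting `d` fixes one of its fixed points. -/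
theorem exists_inverter (hi : i ≤ 1) {d : G} (hd1 : d ≠ 1) {a b c : Ω} (hab : a ≠ b)
    (hac : a ≠ c) (hbc : b ≠ c) (ha : d • a = a) (hb : d • b = b) (hc : d • c = c) :
    ∃ (z : G) (r : Ω), orderOf z = 2 ∧ z * d * z⁻¹ = d⁻¹ ∧ d • r = r ∧ z • r = r := by
  classical
  haveI := Fintype.ofFinite Ω
  obtain ⟨y, hya, hyb⟩ := H.exists_swap hab
  obtain ⟨w, hwa, hwc⟩ := H.exists_swap hac
  obtain ⟨z, hzb, hzc⟩ := H.exists_swap hbc
  have hy := H.swap_inverts hab hya hyb (d := d) ⟨ha, hb⟩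
  have hw := H.swap_inverts hac hwa hwc (d := d) ⟨ha, hc⟩
  have hz := H.swap_inverts hbc hzb hzc (d := d) ⟨hb, hc⟩
  have hz2 : orderOf z = 2 :=
    Invol.orderOf_eq_two_of_isConj (H.swap_isConj hbc hzb hzc) H.invol
  set C := centralizer ({d} : Set G)
  have hk : y * w ∈ C := by
    rw [mem_centralizer_singleton_iff, ← mul_inv_eq_iff_eq_mul]
    calc y * w * d * (y * w)⁻¹ = y * (w * d * w⁻¹) * y⁻¹ := by group
      _ = (y * d * y⁻¹)⁻¹ := by rw [hw]; group
      _ = d := by rw [hy, inv_inv]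
  have hnorm : ∀ g ∈ C, z * g * z⁻¹ ∈ C := fun g hg => by
    rw [mem_centralizer_singleton_iff]
    have h1 : Commute g d := mem_centralizer_singleton_iff.1 hg
    have h2 := ((Commute.conj_iff z).2 h1).inv_right
    rw [hz, inv_inv] at h2
    exact h2
  have hbO : (y * w) • c = b := by rw [mul_smul, hwc, hya]
  have hodd : Odd (Nat.card {x : Ω // x ∈ MulAction.orbit C c}) :=
    Odd.of_dvd_nat (H.odd_centralizer hi hab ha hb hd1) (Dvd.intro _ (by
      rw [← Nat.card_prod]
      exact Nat.card_congr (MulAction.orbitProdStabilizerEquivGroup C c)))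
  obtain ⟨r, hr, hzr⟩ := exists_fixed_of_odd (Invol.mul_self_eq_one hz2)
    (fun x => x ∈ MulAction.orbit C c) (fun x hx => by
      obtain ⟨g, rfl⟩ := hx
      refine ⟨⟨z * (g : G) * z⁻¹, hnorm _ g.2⟩ * ⟨y * w, hk⟩, ?_⟩
      show (z * (g : G) * z⁻¹ * (y * w)) • c = z • (g : G) • c
      rw [mul_smul, hbO, mul_smul, inv_smul_eq_iff.2 hzc.symm, mul_smul]) hodd
  obtain ⟨g, rfl⟩ := hr
  refine ⟨z, (g : G) • c, hz2, hz, ?_, hzr⟩
  have h1 : Commute (g : G) d := mem_centralizer_singleton_iff.1 g.2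
  rw [smul_smul, ← h1.eq, mul_smul, hc]

/-- If the involutions fix no point then no nontrivial element fixes three. -/
theorem three_of_zero (hi : i = 0) {d : G} {a b c : Ω} (hab : a ≠ b) (hac : a ≠ c) (hbc : b ≠ c)
    (ha : d • a = a) (hb : d • b = b) (hc : d • c = c) : d = 1 := by
  by_contra hd1
  obtain ⟨z, r, hz, -, -, hzr⟩ := H.exists_inverter (by omega) hd1 hab hac hbc ha hb hc
  have h0 : nfix Ω z = 0 := by rw [(H.change (H.isConj_invol hz)).nfix_t, hi]
  haveI : Nonempty {x : Ω // z • x = x} := ⟨⟨r, hzr⟩⟩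
  have : 0 < nfix Ω z := Nat.card_pos
  omega

omit [Finite G] in
theorem fixed_unique (hi : i = 1) {y : G} (hy : IsConj t y) {u v : Ω} (hu : y • u = u)
    (hv : y • v = v) : u = v := by
  by_contra h
  have := two_le_nfix h hu hv
  have := (H.change hy).nfix_t
  omega

/-- If the involutions fix exactly one point and a nontrivial element fixes three points, all
involutions fixing one of these invert it. -/
theorem inverts_of_one (hi : i = 1) {d : G} (hd1 : d ≠ 1) {z : G} {r : Ω} (hz : orderOf z = 2)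
    (hzd : z * d * z⁻¹ = d⁻¹) (hdr : d • r = r) (hzr : z • r = r) {q : Ω} (hqr : q ≠ r)
    (hdq : d • q = q) {y : G} (hy : IsConj t y) (hyr : y • r = r) : y * d * y⁻¹ = d⁻¹ := by
  classical
  haveI := Fintype.ofFinite Ω
  haveI := Fintype.ofFinite G
  have hpres : ∀ {y : G}, y * d * y⁻¹ = d⁻¹ → ∀ x : Ω, d • x = x → d • y • x = y • x := by
    intro y hy x hx
    have h1 : (y * d * y⁻¹) • (y • x) = y • x := by rw [mul_smul, mul_smul, inv_smul_smul, hx]
    rw [hy, inv_smul_eq_iff] at h1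
    exact h1.symm
  set Δ := {x : Ω // d • x = x}
  set m := Nat.card Δ with hm
  have hzc := H.isConj_invol hz
  have hm2 : 2 ≤ m := two_le_nfix hqr hdq hdr
  have hmodd : Odd m := by
    rw [← Nat.not_even_iff_odd]
    intro he
    obtain ⟨x, hx, hzx, hxr⟩ := exists_fixed_of_even (Invol.mul_self_eq_one hz)
      (fun x => d • x = x) (fun x hx => hpres hzd x hx) he hdr hzr
    exact hxr (H.fixed_unique hi hzc hzx hzr)
  -- the involutions fixing a given point
  set n := Nat.card Ω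
  set D := Nat.card (twoPt G q r)
  let I : Ω → Type _ := fun p => {y : G // IsConj t y ∧ y • p = p}
  have hIeq : ∀ p, Nat.card (I p) = Nat.card (I r) := by
    intro p
    obtain ⟨g, hg⟩ := H.exists_smul p r
    refine Nat.card_congr
      { toFun := fun y => ⟨g * y.1 * g⁻¹, y.2.1.trans (isConj_iff.2 ⟨g, rfl⟩), ?_⟩
        invFun := fun y => ⟨g⁻¹ * y.1 * g, y.2.1.trans (isConj_iff.2 ⟨g⁻¹, by simp⟩), ?_⟩
        left_inv := fun y => Subtype.ext (by simp [mul_assoc])
        right_inv := fun y => Subtype.ext (by simp [mul_assoc]) }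
    · rw [mul_smul, mul_smul, inv_smul_eq_iff.2 hg.symm, y.2.2, hg]
    · rw [mul_smul, mul_smul, hg, y.2.2, inv_smul_eq_iff, hg]
  have hfix : ∀ {y : G}, IsConj t y → ∃ p : Ω, y • p = p := fun {y} hy => by
    have h : 0 < nfix Ω y := by rw [(H.change hy).nfix_t, hi]; exact one_pos
    obtain ⟨⟨p, hp⟩⟩ := (Nat.card_pos_iff.1 h).1
    exact ⟨p, hp⟩
  have hT : Nat.card {y : G // IsConj t y} = n * Nat.card (I r) := by
    have e : (Σ p : Ω, I p) ≃ {y : G // IsConj t y} := Equiv.ofBijective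
      (fun s => ⟨s.2.1, s.2.2.1⟩) ⟨fun s s' h => by
        obtain ⟨p, y, hy, hyp⟩ := s
        obtain ⟨p', y', hy', hyp'⟩ := s'
        have h' : y = y' := congrArg Subtype.val h
        subst h'
        obtain rfl := H.fixed_unique hi hy hyp hyp'
        rfl, fun y => by
        obtain ⟨p, hp⟩ := hfix y.2
        exact ⟨⟨p, y.1, y.2, hp⟩, rfl⟩⟩
    rw [← Nat.card_congr e, Nat.card_sigma, Finset.sum_congr rfl fun p _ => hIeq p,
      Finset.sum_const, Finset.card_univ, smul_eq_mul, ← Nat.card_eq_fintype_card]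
  have hpairs : Nat.card (Pairs Ω) = n * (n - 1) := by
    rw [← Nat.card_congr (Equiv.subtypeProdEquivSigmaSubtype (fun u v : Ω => u ≠ v)).symm,
      Nat.card_sigma, Finset.sum_congr rfl fun u _ => ?_, Finset.sum_const, Finset.card_univ,
      smul_eq_mul, ← Nat.card_eq_fintype_card]
    rw [Nat.card_eq_fintype_card, show n = Fintype.card Ω from Nat.card_eq_fintype_card,
      Fintype.card_subtype_compl, Fintype.card_subtype_eq']
  have hIr : Nat.card (I r) = D := by
    have h1 := Invol.card_isConj_mul_card_centralizer t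
    rw [hT, ← H.card_group hqr, hpairs] at h1
    have h2 := H.card_cent
    rw [hi] at h2
    have hnn : Nat.card (centralizer ({t} : Set G)) = n - 1 := by omega
    rw [hnn] at h1
    have hc0 : 0 < n - 1 := hnn ▸ Nat.card_pos
    have : n * Nat.card (I r) * (n - 1) = n * D * (n - 1) := by rw [h1]; ring
    exact Nat.eq_of_mul_eq_mul_left (Nat.card_pos_iff.2 ⟨⟨q⟩, inferInstance⟩)
      (Nat.eq_of_mul_eq_mul_right hc0 this)
  -- the inverting involutions
  let J : Ω → Type _ := fun p => {y : G // (IsConj t y ∧ y • p = p) ∧ y * d * y⁻¹ = d⁻¹}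
  let JJ := {y : G // IsConj t y ∧ y * d * y⁻¹ = d⁻¹}
  have hJfix : ∀ y : JJ, ∃ p : Δ, y.1 • p.1 = p.1 := by
    intro y
    obtain ⟨x, hx, hyx⟩ := exists_fixed_of_odd (H.invol_of_conj y.2.1) (fun x => d • x = x)
      (fun x hx => hpres y.2.2 x hx) hmodd
    exact ⟨⟨x, hx⟩, hyx⟩
  have hJmove : ∀ y : JJ, Nat.card {x : Δ // y.1 • x.1 ≠ x.1} = m - 1 := by
    intro y
    obtain ⟨p, hp⟩ := hJfix y
    rw [Nat.card_congr (Equiv.subtypeEquivRight (q := fun x : Δ => x ≠ p) fun x => ⟨fun h e => h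
      (by rw [e]; exact hp), fun h e => h (Subtype.ext (H.fixed_unique hi y.2.1 e hp))⟩)]
    rw [hm, Nat.card_eq_fintype_card, Nat.card_eq_fintype_card, Fintype.card_subtype_compl,
      Fintype.card_subtype_eq]
  have hJJ : Nat.card JJ = m * D := by
    have e : (Σ y : JJ, {x : Δ // y.1 • x.1 ≠ x.1}) ≃
        Σ p : {p : Δ × Δ // p.1 ≠ p.2}, Sw t (⟨(p.1.1.1, p.1.2.1),
          fun e => p.2 (Subtype.ext e)⟩ : Pairs Ω) :=
      { toFun := fun s => ⟨⟨(s.2.1, ⟨s.1.1 • s.2.1.1, hpres s.1.2.2 _ s.2.1.2⟩),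
          fun e => s.2.2 (congrArg Subtype.val e).symm⟩, s.1.1, s.1.2.1, rfl⟩
        invFun := fun s => ⟨⟨s.2.1, s.2.2.1, H.swap_inverts
            (fun e => s.1.2 (Subtype.ext e)) s.2.2.2 (H.smul_back s.2.2.1 s.2.2.2)
            ⟨s.1.1.1.2, s.1.1.2.2⟩⟩,
          ⟨s.1.1.1, fun e => s.1.2 (Subtype.ext (e.symm.trans s.2.2.2))⟩⟩
        left_inv := fun _ => rfl
        right_inv := by
          rintro ⟨⟨⟨u, ⟨v, hv⟩⟩, huv⟩, y, hy, hyu⟩
          simp only at hyu
          subst hyu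
          rfl }
    have h1 := Nat.card_congr e
    rw [Nat.card_sigma, Nat.card_sigma, Finset.sum_congr rfl fun y _ => hJmove y,
      Finset.sum_const, Finset.card_univ, smul_eq_mul, ← Nat.card_eq_fintype_card] at h1
    have hsw : ∀ p : Pairs Ω, Nat.card (Sw t p) = D := by
      intro p
      rw [H.card_sw_eq p ⟨(q, r), hqr⟩]
      have hle : Nat.card (Sw t (⟨(q, r), hqr⟩ : Pairs Ω)) = Nat.card (twoPt G q r) := by
        obtain ⟨g, hgq, hgr⟩ := H.exists_swap hqr
        refine Nat.card_congr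
          { toFun := fun y => ⟨g⁻¹ * y.1, ?_, ?_⟩
            invFun := fun e => ⟨g * e.1, H.swap_isConj hqr ?_ ?_, ?_⟩
            left_inv := fun y => Subtype.ext (mul_inv_cancel_left g y.1)
            right_inv := fun e => Subtype.ext (inv_mul_cancel_left g e.1) }
        · show (g⁻¹ * y.1) • q = q
          rw [mul_smul, show y.1 • q = r from y.2.2, inv_smul_eq_iff, hgq]
        · show (g⁻¹ * y.1) • r = r
          rw [mul_smul, H.smul_back y.2.1 (show y.1 • q = r from y.2.2), inv_smul_eq_iff, hgr]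
        · rw [mul_smul, show e.1 • q = q from e.2.1, hgq]
        · rw [mul_smul, show e.1 • r = r from e.2.2, hgr]
        · show (g * e.1) • q = r
          rw [mul_smul, show e.1 • q = q from e.2.1, hgq]
      exact hle
    rw [Finset.sum_congr rfl fun p _ => hsw _, Finset.sum_const, Finset.card_univ,
      smul_eq_mul] at h1
    have hP : Fintype.card {p : Δ × Δ // p.1 ≠ p.2} = m * (m - 1) := by
      rw [← Nat.card_eq_fintype_card,
        ← Nat.card_congr (Equiv.subtypeProdEquivSigmaSubtype (fun u v : Δ => u ≠ v)).symm,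
        Nat.card_sigma, Finset.sum_congr rfl fun u _ => ?_, Finset.sum_const, Finset.card_univ,
        smul_eq_mul, ← Nat.card_eq_fintype_card, hm]
      rw [Nat.card_eq_fintype_card, Nat.card_eq_fintype_card, Fintype.card_subtype_compl,
        Fintype.card_subtype_eq']
    rw [hP] at h1
    have : Nat.card JJ * (m - 1) = m * D * (m - 1) := by rw [h1]; ring
    exact Nat.eq_of_mul_eq_mul_right (by omega) this
  have hJsum : Nat.card JJ = ∑ p : Δ, Nat.card (J p.1) := by
    rw [← Nat.card_sigma]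
    refine (Nat.card_congr (Equiv.ofBijective
      (fun s : Σ p : Δ, J p.1 => (⟨s.2.1, s.2.2.1.1, s.2.2.2⟩ : JJ)) ⟨fun s s' h => ?_,
      fun y => ?_⟩)).symm
    · obtain ⟨p, y, ⟨hy, hyp⟩, hy3⟩ := s
      obtain ⟨p', y', ⟨hy', hyp'⟩, hy3'⟩ := s'
      have h' : y = y' := congrArg Subtype.val h
      subst h'
      obtain rfl := Subtype.ext (H.fixed_unique hi hy hyp hyp')
      rfl
    · obtain ⟨p, hp⟩ := hJfix y
      exact ⟨⟨p, y.1, ⟨y.2.1, hp⟩, y.2.2⟩, rfl⟩
  have hJle : ∀ p : Δ, Nat.card (J p.1) ≤ D := fun p => by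
    rw [← hIr, ← hIeq p.1]
    exact Nat.card_le_card_of_injective (fun y => (⟨y.1, y.2.1⟩ : I p.1))
      fun y y' h => Subtype.ext (congrArg Subtype.val h :)
  by_contra hyd
  have hlt : Nat.card (J r) < D := by
    rw [← hIr, Nat.card_eq_fintype_card, Nat.card_eq_fintype_card]
    refine Fintype.card_lt_of_injective_of_notMem (fun y => (⟨y.1, y.2.1⟩ : I r))
      (fun y y' h => Subtype.ext (congrArg Subtype.val h :)) (b := ⟨y, hy, hyr⟩) ?_
    rintro ⟨y', h⟩
    have h' : y'.1 = y := congrArg Subtype.val h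
    have h2 := y'.2.2
    rw [h'] at h2
    exact hyd h2
  have hsum : ∑ p : Δ, Nat.card (J p.1) < ∑ _p : Δ, D :=
    Finset.sum_lt_sum (fun p _ => hJle p) ⟨⟨r, hdr⟩, Finset.mem_univ _, hlt⟩
  rw [← hJsum, hJJ, Finset.sum_const, Finset.card_univ, smul_eq_mul, hm,
    Nat.card_eq_fintype_card] at hsum
  exact lt_irrefl _ hsum

/-- The case of one fixed point. -/
theorem regular_of_one (hi : i = 1) {d : G} (hd1 : d ≠ 1) {a b c : Ω} (hab : a ≠ b) (hac : a ≠ c)
    (hbc : b ≠ c) (ha : d • a = a) (hb : d • b = b) (hc : d • c = c) :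
    HasRegularNormal G Ω := by
  obtain ⟨z, r, hz, hzd, hdr, hzr⟩ := H.exists_inverter (by omega) hd1 hab hac hbc ha hb hc
  obtain ⟨q, hqr, hdq⟩ : ∃ q, q ≠ r ∧ d • q = q := by
    by_cases har : a = r
    · exact ⟨b, fun e => hab (har.trans e.symm), hb⟩
    · exact ⟨a, har, ha⟩
  have hpair : ∀ {y w : G}, orderOf y = 2 → orderOf w = 2 → Commute y w → w = y := by
    intro y w hy hw hcomm
    by_contra hne
    have hyc := H.isConj_invol hy
    have hwc := H.isConj_invol hw
    obtain ⟨s, hs⟩ : ∃ s : Ω, y • s = s := by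
      have h : 0 < nfix Ω y := by rw [(H.change hyc).nfix_t, hi]; exact one_pos
      obtain ⟨⟨p, hp⟩⟩ := (Nat.card_pos_iff.1 h).1
      exact ⟨p, hp⟩
    have hws : w • s = s := H.fixed_unique hi hyc (by
      rw [smul_smul, hcomm.eq, mul_smul, hs]) hs
    obtain ⟨g, hg⟩ := H.exists_smul s r
    have hmove : ∀ {x : G}, x • s = s → (g * x * g⁻¹) • r = r := fun {x} hx => by
      rw [mul_smul, mul_smul, inv_smul_eq_iff.2 hg.symm, hx, hg]
    have key : ∀ {x : G}, IsConj t x → x • s = s →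
        g * x * g⁻¹ * d * (g * x * g⁻¹)⁻¹ = d⁻¹ := fun {x} hx hxs =>
      H.inverts_of_one hi hd1 hz hzd hdr hzr hqr hdq (hx.trans (isConj_iff.2 ⟨g, rfl⟩)) (hmove hxs)
    set Y := g * y * g⁻¹
    set W := g * w * g⁻¹
    have hYW : orderOf (Y * W) = 2 := by
      rw [show Y * W = g * (y * w) * g⁻¹ by simp [Y, W, mul_assoc], Invol.orderOf_conj,
        Invol.orderOf_eq_two_iff]
      refine ⟨fun e => hne ?_, ?_⟩
      · rw [← inv_eq_of_mul_eq_one_right e, Invol.inv_eq_self hy]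
      · rw [mul_assoc, ← mul_assoc w, ← hcomm.eq, mul_assoc, Invol.mul_self_eq_one hw, mul_one,
          Invol.mul_self_eq_one hy]
    have hc2 : Commute d (Y * W) := by
      show d * (Y * W) = Y * W * d
      rw [eq_comm, ← mul_inv_eq_iff_eq_mul]
      calc Y * W * d * (Y * W)⁻¹ = Y * (W * d * W⁻¹) * Y⁻¹ := by group
        _ = (Y * d * Y⁻¹)⁻¹ := by rw [key hwc hws]; group
        _ = d := by rw [key hyc hs, inv_inv]
    have := H.conj_fix (H.isConj_invol hYW) hc2 hd1
    have := two_le_nfix hqr hdq hdr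
    omega
  have hiso : Cfsg.IsIsolatedInvolution t :=
    ⟨H.invol, fun g hg => hpair H.invol (by rw [Invol.orderOf_conj]; exact H.invol) hg⟩
  by_cases hO : Cfsg.oddCore G = ⊥
  · exfalso
    obtain ⟨s, hs⟩ : ∃ s : Ω, t • s = s := by
      have h : 0 < nfix Ω t := by rw [H.nfix_t, hi]; exact one_pos
      obtain ⟨⟨p, hp⟩⟩ := (Nat.card_pos_iff.1 h).1
      exact ⟨p, hp⟩
    obtain ⟨x, hx⟩ := H.exists_moved
    obtain ⟨g, hg⟩ := H.exists_smul s x
    have h := Invol.zstar hiso g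
    rw [hO, mem_bot, mul_inv_eq_one, mul_inv_eq_iff_eq_mul] at h
    exact hx (by rw [← hg, smul_smul, h, mul_smul, hs])
  · have hodd : Odd (Nat.card (Cfsg.oddCore G)) :=
      Nat.odd_iff.2 (Nat.two_dvd_ne_zero.1 Core.not_dvd_card_pPrimeCore)
    obtain ⟨M, hMn, hMc, -, hMne⟩ :=
      Coprime.exists_minimal_normal_abelian (Cfsg.oddCore G) hO (S0205.result hodd)
    exact H.regular_of_comm hMn hMne fun a ha b hb =>
      congrArg Subtype.val (hMc.is_comm.comm (⟨a, ha⟩ : M) ⟨b, hb⟩)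

end Hyp

end Cfsg.Agent.ConstFixInv
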